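import Groth.Agent.Lib.ProEtS.UIDense
import Mathlib

/-!
# A morphism of finite flat schemes which is an isomorphism in codimension one is an isomorphism
-/

universe u

open TensorProduct CategoryTheory CategoryTheory.Limits AlgebraicGeometry

namespace GrothLib.FlatIso1

section alg

variable {L : Type u} [CommRing L] [IsNoetherianRing L] [IsLocalRing L] {M N : Type u}
  [AddCommGroup M] [Module L M] [Module.Finite L M] [Module.Free L M]
  [AddCommGroup N] [Module L N] [Module.Finite L N] [Module.Free L N]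

theorem bijective_of_local (f : M →ₗ[L] N)
    (h : ∀ q : Ideal L, ∀ [q.IsPrime], q.height ≤ 1 → Function.Bijective (f.baseChange q.ResidueField)) :
    Function.Bijective f := by
  classical
  obtain ⟨q₀, hq₀⟩ := Ideal.nonempty_minimalPrimes (show (⊥ : Ideal L) ≠ ⊤ from bot_ne_top)
  haveI : q₀.IsPrime := hq₀.1.1
  have h0 : q₀.height ≤ 1 := by
    rw [Ideal.height_eq_zero_iff.2 (show q₀ ∈ minimalPrimes L from hq₀)]
    exact zero_le
  have hr : Module.finrank L N = Module.finrank L M := by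
    rw [← Module.finrank_baseChange (R := q₀.ResidueField) (M' := N),
      ← Module.finrank_baseChange (R := q₀.ResidueField) (M' := M)]
    exact (LinearEquiv.finrank_eq (LinearEquiv.ofBijective _ (h q₀ h0))).symm
  let b := Module.Free.chooseBasis L M
  let b' : Module.Basis (Module.Free.ChooseBasisIndex L M) L N :=
    (Module.Free.chooseBasis L N).reindex (Fintype.equivOfCardEq (by
    rw [← Module.finrank_eq_card_chooseBasisIndex, ← Module.finrank_eq_card_chooseBasisIndex, hr]))
  suffices hu : IsUnit (LinearMap.toMatrix b b' f).det by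
    have := (LinearEquiv.ofIsUnitDet hu).bijective
    exact this
  by_contra hd
  obtain ⟨q, hq⟩ := Ideal.nonempty_minimalPrimes (I := Ideal.span {(LinearMap.toMatrix b b' f).det})
    (by rwa [Ne, Ideal.span_singleton_eq_top])
  haveI : q.IsPrime := hq.1.1
  haveI : (Ideal.span {(LinearMap.toMatrix b b' f).det}).IsPrincipal := ⟨⟨_, rfl⟩⟩
  have hq1 := Ideal.height_le_one_of_isPrincipal_of_mem_minimalPrimes _ q hq
  let e := LinearEquiv.ofBijective _ (h q hq1)
  have h2 := LinearEquiv.isUnit_det e (Algebra.TensorProduct.basis q.ResidueField b)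
    (Algebra.TensorProduct.basis q.ResidueField b')
  rw [show (e : (q.ResidueField ⊗[L] M) →ₗ[q.ResidueField] (q.ResidueField ⊗[L] N)) = f.baseChange q.ResidueField
    from rfl, LinearMap.toMatrix_baseChange, ← RingHom.mapMatrix_apply, ← RingHom.map_det] at h2
  exact h2.ne_zero (Ideal.algebraMap_residueField_eq_zero.2
    (hq.1.2 (Ideal.mem_span_singleton_self _)))

theorem baseChange_baseChange_bijective {A : Type u} [CommRing A] (L : Type u) [CommRing L] [Algebra A L]
    (K : Type u) [CommRing K] [Algebra A K] [Algebra L K] [IsScalarTower A L K]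
    {M N : Type u} [AddCommGroup M] [Module A M] [AddCommGroup N] [Module A N] (f : M →ₗ[A] N)
    (h : Function.Bijective (f.baseChange K)) : Function.Bijective ((f.baseChange L).baseChange K) := by
  let eM := TensorProduct.AlgebraTensorModule.cancelBaseChange A L K K M
  let eN := TensorProduct.AlgebraTensorModule.cancelBaseChange A L K K N
  have he : (f.baseChange L).baseChange K = eN.symm.toLinearMap ∘ₗ f.baseChange K ∘ₗ eM.toLinearMap := by
    refine TensorProduct.AlgebraTensorModule.ext fun x y => ?_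
    induction y using TensorProduct.induction_on with
    | zero => simp
    | add a b ha hb => simp only [tmul_add, map_add, ha, hb]
    | tmul l m =>
      simp [eM, eN]
      rw [smul_tmul, smul_tmul', smul_eq_mul, mul_one]
  rw [he]
  exact eN.symm.bijective.comp (h.comp eM.bijective)

/-- A map of finite projective modules over a Noetherian ring which is bijective on the residue fields of
height at most one is bijective. -/
theorem bijective_of_height_le_one {A : Type u} [CommRing A] [IsNoetherianRing A] {M N : Type u}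
    [AddCommGroup M] [Module A M] [Module.Finite A M] [Module.Projective A M]
    [AddCommGroup N] [Module A N] [Module.Finite A N] [Module.Projective A N] (f : M →ₗ[A] N)
    (h : ∀ (p : Ideal A) [p.IsPrime], p.height ≤ 1 → ∀ (K : Type u) [Field K] [Algebra A K],
      RingHom.ker (algebraMap A K) = p → Function.Bijective (f.baseChange K)) :
    Function.Bijective f := by
  refine bijective_of_isLocalized_maximal
    (fun (P : Ideal A) (_ : P.IsMaximal) => Localization.AtPrime P ⊗[A] M)
    (fun P _ => TensorProduct.mk A (Localization.AtPrime P) M 1)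
    (fun (P : Ideal A) (_ : P.IsMaximal) => Localization.AtPrime P ⊗[A] N)
    (fun P _ => TensorProduct.mk A (Localization.AtPrime P) N 1) f fun P _ => ?_
  have hL : Function.Bijective (f.baseChange (Localization.AtPrime P)) := by
    haveI : Module.Free (Localization.AtPrime P) (Localization.AtPrime P ⊗[A] M) :=
      Module.free_of_flat_of_isLocalRing
    haveI : Module.Free (Localization.AtPrime P) (Localization.AtPrime P ⊗[A] N) :=
      Module.free_of_flat_of_isLocalRing
    refine bijective_of_local _ fun q _ hq => ?_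
    refine baseChange_baseChange_bijective _ _ f (h (q.comap (algebraMap A (Localization.AtPrime P))) ?_ _ ?_)
    · rwa [IsLocalization.height_comap P.primeCompl]
    · rw [IsScalarTower.algebraMap_eq A (Localization.AtPrime P) q.ResidueField, ← RingHom.comap_ker,
        Ideal.ker_algebraMap_residueField]
  have he : IsLocalizedModule.map P.primeCompl (TensorProduct.mk A (Localization.AtPrime P) M 1)
      (TensorProduct.mk A (Localization.AtPrime P) N 1) f =
      (f.baseChange (Localization.AtPrime P)).restrictScalars A := by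
    refine IsLocalizedModule.ext P.primeCompl (TensorProduct.mk A (Localization.AtPrime P) M 1)
      (IsLocalizedModule.map_units (TensorProduct.mk A (Localization.AtPrime P) N 1)) ?_
    ext m
    rw [LinearMap.comp_apply, IsLocalizedModule.map_apply]
    simp
  rw [he]
  exact hL

end alg

section scheme

/-- Pullback of `Ψ` along `h` is an isomorphism if `h` factors through `h₀` along which it is one. -/
theorem isIso_snd_comp {W₁ W₂ T T' : Scheme.{u}} (Ψ : W₁ ⟶ W₂) (l : T ⟶ T') (h₀ : T' ⟶ W₂)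
    [IsIso (pullback.snd Ψ h₀)] : IsIso (pullback.snd Ψ (l ≫ h₀)) := by
  haveI : IsIso (pullback.snd (pullback.snd Ψ h₀) l) :=
    MorphismProperty.pullback_snd (P := MorphismProperty.isomorphisms Scheme.{u}) _ _ ‹_›
  rw [← (Iso.inv_comp_eq _).2 (pullbackLeftPullbackSndIso_hom_snd Ψ h₀ l).symm]
  infer_instance

theorem height_eq_ringKrullDim {S : Scheme.{u}} {U : S.Opens} (hU : IsAffineOpen U) (p : PrimeSpectrum Γ(S, U)) :
    ringKrullDim (S.presheaf.stalk (hU.fromSpec p)) = p.asIdeal.height := by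
  have hy : hU.fromSpec p ∈ U := by rw [← SetLike.mem_coe, ← hU.range_fromSpec]; exact ⟨p, rfl⟩
  letI := TopCat.Presheaf.algebra_section_stalk S.presheaf (⟨hU.fromSpec p, hy⟩ : U)
  haveI := hU.isLocalization_stalk' p hy
  exact @IsLocalization.AtPrime.ringKrullDim_eq_height _ _ p.asIdeal _ _ _ _ this
theorem surjective_of_codim_zero {X S : Scheme.{u}} (f : X ⟶ S) [UniversallyClosed f]
    (h : ∀ s : S, ringKrullDim (S.presheaf.stalk s) ≤ 1 → s ∈ Set.range f) : Function.Surjective f := by
  intro s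
  obtain ⟨_, ⟨U, hU, rfl⟩, hs, -⟩ := (S.isBasis_affineOpens).exists_subset_of_mem_open (Set.mem_univ s) isOpen_univ
  obtain ⟨p, rfl⟩ : s ∈ Set.range hU.fromSpec := by rw [hU.range_fromSpec]; exact hs
  obtain ⟨q, hq, hqp⟩ := Ideal.exists_minimalPrimes_le (show (⊥ : Ideal Γ(S, U)) ≤ p.asIdeal from bot_le)
  haveI := hq.1.1
  have h1 := h (hU.fromSpec ⟨q, hq.1.1⟩) (by
    rw [height_eq_ringKrullDim hU]
    show ((q.height : ℕ∞) : WithBot ℕ∞) ≤ 1
    rw [Ideal.height_eq_zero_iff.2 (show q ∈ minimalPrimes Γ(S, U) from hq)]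
    exact zero_le_one)
  exact ((PrimeSpectrum.le_iff_specializes ⟨q, hq.1.1⟩ p).1 hqp |>.map hU.fromSpec.continuous).mem_closed
    f.isClosedMap.isClosed_range h1

set_option maxHeartbeats 1000000 in
/-- A morphism between finite flat schemes over a Noetherian base which is an isomorphism over the points of
codimension at most one is an isomorphism. -/
theorem isIso_of_codim_le_one {W₁ W₂ S : Scheme.{u}} [IsLocallyNoetherian S] (Ψ : W₁ ⟶ W₂) (π : W₂ ⟶ S)
    [IsFinite π] [Flat π] [IsFinite (Ψ ≫ π)] [Flat (Ψ ≫ π)]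
    (h : ∀ s : S, ringKrullDim (S.presheaf.stalk s) ≤ 1 →
      IsIso (pullback.snd Ψ (pullback.fst π (S.fromSpecResidueField s)))) : IsIso Ψ := by
  haveI : IsAffineHom Ψ := MorphismProperty.of_postcomp (W := @IsAffineHom) (W' := @IsSeparated) Ψ π
    inferInstance inferInstance
  have hbij : ∀ (U : S.Opens), IsAffineOpen U → IsIso (Spec.map (Ψ.app (π ⁻¹ᵁ U))) := by
    intro U hU
    suffices hb : Function.Bijective (Ψ.app (π ⁻¹ᵁ U)) by
      haveI : IsIso (Ψ.app (π ⁻¹ᵁ U)) := (ConcreteCategory.isIso_iff_bijective _).2 hb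
      infer_instance
    letI := (π.app U).hom.toAlgebra
    letI := ((π.app U) ≫ Ψ.app (π ⁻¹ᵁ U)).hom.toAlgebra
    haveI : IsNoetherianRing Γ(S, U) := IsLocallyNoetherian.component_noetherian ⟨U, hU⟩
    haveI : Module.Finite Γ(S, U) Γ(W₂, π ⁻¹ᵁ U) := IsFinite.finite_app π U hU
    haveI : Module.Finite Γ(S, U) Γ(W₁, Ψ ⁻¹ᵁ π ⁻¹ᵁ U) := IsFinite.finite_app (Ψ ≫ π) U hU
    haveI : Module.Flat Γ(S, U) Γ(W₂, π ⁻¹ᵁ U) := by
      have := Flat.flat_appLE π hU (hU.preimage π) le_rfl
      rwa [← Scheme.Hom.app_eq_appLE] at this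
    haveI : Module.Flat Γ(S, U) Γ(W₁, Ψ ⁻¹ᵁ π ⁻¹ᵁ U) := by
      have := Flat.flat_appLE (Ψ ≫ π) hU (hU.preimage (Ψ ≫ π)) le_rfl
      rwa [← Scheme.Hom.app_eq_appLE, Scheme.Hom.comp_app] at this
    haveI : Module.FinitePresentation Γ(S, U) Γ(W₂, π ⁻¹ᵁ U) := Module.finitePresentation_of_finite _ _
    haveI : Module.FinitePresentation Γ(S, U) Γ(W₁, Ψ ⁻¹ᵁ π ⁻¹ᵁ U) := Module.finitePresentation_of_finite _ _
    haveI : Module.Projective Γ(S, U) Γ(W₂, π ⁻¹ᵁ U) := Module.Flat.projective_of_finitePresentation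
    haveI : Module.Projective Γ(S, U) Γ(W₁, Ψ ⁻¹ᵁ π ⁻¹ᵁ U) := Module.Flat.projective_of_finitePresentation
    let ψ : Γ(W₂, π ⁻¹ᵁ U) →ₐ[Γ(S, U)] Γ(W₁, Ψ ⁻¹ᵁ π ⁻¹ᵁ U) := ⟨(Ψ.app (π ⁻¹ᵁ U)).hom, fun _ => rfl⟩
    show Function.Bijective ψ.toLinearMap
    refine bijective_of_height_le_one _ fun p hp hht K _ _ hK => ?_
    let Φ : (K ⊗[Γ(S, U)] Γ(W₂, π ⁻¹ᵁ U)) →ₐ[K] K ⊗[Γ(S, U)] Γ(W₁, Ψ ⁻¹ᵁ π ⁻¹ᵁ U) :=
      Algebra.TensorProduct.map (AlgHom.id K K) ψ
    suffices hΦ : Function.Bijective Φ by
      have he : ∀ x, ψ.toLinearMap.baseChange K x = Φ x := fun x => by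
        induction x using TensorProduct.induction_on with
        | zero => simp
        | add a b ha hb => simp only [map_add, ha, hb]
        | tmul a b => rfl
      rw [show ⇑(ψ.toLinearMap.baseChange K) = ⇑Φ from funext he]
      exact hΦ
    -- the field point and its image
    let g : Spec (.of K) ⟶ S := Spec.map (CommRingCat.ofHom (algebraMap Γ(S, U) K)) ≫ hU.fromSpec
    obtain ⟨⟨s, φ'⟩, hg⟩ := (Scheme.SpecToEquivOfField K S).symm.surjective g
    change Spec.map φ' ≫ S.fromSpecResidueField s = g at hg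
    have hs : s = hU.fromSpec ⟨p, hp⟩ := by
      have h1 : (Spec.map φ' ≫ S.fromSpecResidueField s) (IsLocalRing.closedPoint K) = s := by
        rw [Scheme.Hom.comp_apply, Scheme.fromSpecResidueField_apply]
      rw [← h1, hg]
      show hU.fromSpec (PrimeSpectrum.comap (algebraMap Γ(S, U) K) (IsLocalRing.closedPoint K)) = _
      congr 1
      refine PrimeSpectrum.ext ?_
      show (IsLocalRing.maximalIdeal K).comap (algebraMap Γ(S, U) K) = p
      rw [IsLocalRing.maximalIdeal_eq_bot, ← RingHom.ker_eq_comap_bot, hK]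
    haveI := h s (by rw [hs, height_eq_ringKrullDim]; exact WithBot.coe_le_coe.2 hht)
    let i₂ : Γ(W₂, π ⁻¹ᵁ U) →+* K ⊗[Γ(S, U)] Γ(W₂, π ⁻¹ᵁ U) := Algebra.TensorProduct.includeRight.toRingHom
    let i₁ : Γ(W₁, Ψ ⁻¹ᵁ π ⁻¹ᵁ U) →+* K ⊗[Γ(S, U)] Γ(W₁, Ψ ⁻¹ᵁ π ⁻¹ᵁ U) :=
      Algebra.TensorProduct.includeRight.toRingHom
    let h2 : Spec (.of (K ⊗[Γ(S, U)] Γ(W₂, π ⁻¹ᵁ U))) ⟶ W₂ :=
      Spec.map (CommRingCat.ofHom i₂) ≫ (hU.preimage π).fromSpec
    have hl : ∃ l, h2 = l ≫ pullback.fst π (S.fromSpecResidueField s) := by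
      refine ⟨pullback.lift h2 (Spec.map (CommRingCat.ofHom (algebraMap K _)) ≫ Spec.map φ') ?_,
        (pullback.lift_fst _ _ _).symm⟩
      rw [Category.assoc, Category.assoc, hg, ← (GrothLib.ProEtS.isPullback_preimage π hU).w]
      simp only [g, ← Spec.map_comp_assoc]
      congr 2
      ext a
      exact ((Algebra.TensorProduct.includeRight : _ →ₐ[Γ(S, U)] K ⊗[Γ(S, U)] Γ(W₂, π ⁻¹ᵁ U)).commutes a).trans
        (IsScalarTower.algebraMap_apply Γ(S, U) K _ a)
    obtain ⟨l, hl⟩ := hl
    haveI : IsIso (pullback.snd Ψ h2) := by rw [hl]; exact isIso_snd_comp Ψ l _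
    have po : IsPushout (Ψ.app (π ⁻¹ᵁ U)) (CommRingCat.ofHom i₂) (CommRingCat.ofHom i₁)
        (CommRingCat.ofHom Φ.toRingHom) := by
      refine IsPushout.of_left ?_ ?_ (CommRingCat.isPushout_tensorProduct Γ(S, U) K Γ(W₂, π ⁻¹ᵁ U)).flip
      · convert (CommRingCat.isPushout_tensorProduct Γ(S, U) K Γ(W₁, Ψ ⁻¹ᵁ π ⁻¹ᵁ U)).flip using 1
        all_goals first | rfl | exact CommRingCat.hom_ext (RingHom.ext fun a => Φ.commutes a)
      · exact CommRingCat.hom_ext (RingHom.ext fun a => by simp [Φ, i₁, i₂]; rfl)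
    have pb := (isPullback_SpecMap_of_isPushout _ _ _ _ po).paste_horiz
      (GrothLib.ProEtS.isPullback_preimage Ψ (hU.preimage π)).flip
    haveI : IsIso (Spec.map (CommRingCat.ofHom Φ.toRingHom)) := by
      rw [← pb.isoPullback_hom_snd]
      infer_instance
    haveI : IsIso (CommRingCat.ofHom Φ.toRingHom) := by
      haveI : IsIso (Scheme.Spec.map (CommRingCat.ofHom Φ.toRingHom).op) := by assumption
      haveI := isIso_of_reflects_iso (CommRingCat.ofHom Φ.toRingHom).op Scheme.Spec
      exact isIso_of_op _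
    exact ConcreteCategory.bijective_of_isIso (CommRingCat.ofHom Φ.toRingHom)
  have hcov : ⨆ U : S.affineOpens, π ⁻¹ᵁ (U : S.Opens) = ⊤ := by
    rw [← Scheme.Hom.preimage_iSup, iSup_affineOpens_eq_top, Scheme.Hom.preimage_top]
  refine (IsZariskiLocalAtTarget.iff_of_iSup_eq_top (P := MorphismProperty.isomorphisms Scheme.{u}) _ hcov).2
    fun U => ?_
  haveI := hbij U U.2
  have pb := GrothLib.ProEtS.isPullback_preimage Ψ (U.2.preimage π)
  refine (MorphismProperty.arrow_mk_iso_iff (MorphismProperty.isomorphisms Scheme.{u}) ?_).1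
    (show IsIso (Spec.map (Ψ.app (π ⁻¹ᵁ (U : S.Opens)))) from inferInstance)
  exact Arrow.isoMk ((U.2.preimage π).preimage Ψ).isoSpec.symm (U.2.preimage π).isoSpec.symm (by
    rw [← cancel_mono (π ⁻¹ᵁ (U : S.Opens)).ι]
    simp only [Arrow.mk_hom, Iso.symm_hom, Category.assoc, morphismRestrict_ι, IsAffineOpen.isoSpec_inv_ι]
    rw [← Category.assoc, IsAffineOpen.isoSpec_inv_ι]
    exact pb.w.symm)

end scheme

end GrothLib.FlatIso1
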